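import Groth.Agent.HomogSep.Main
import Groth.Agent.AbRigid.Basic

/-!
Groups with connected fibres acting transitively.
-/

universe u

open CategoryTheory Limits MonoidalCategory CartesianMonoidalCategory MonObj GrpObj AlgebraicGeometry TopologicalSpace

set_option backward.isDefEq.respectTransparency false
set_option linter.style.haveILetI false

noncomputable section

namespace Groth.Agent.HomogSep

variable {S : Scheme.{u}} (G : Over S) [GrpObj G] [LocallyOfFiniteType G.hom]

/-- connected fibres stay irreducible after a field extension -/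
theorem irreducibleSpace_bc (hconn : ∀ s : S, _root_.IsConnected (G.hom ⁻¹' {s})) {K : Type u} [Field K]
    (t : Spec (CommRingCat.of K) ⟶ S) : IrreducibleSpace (Red.bc t G).left := by
  haveI : GeometricallyConnected G.hom := AbRigid.geometricallyConnected_of_section G.hom η[G].left (Over.w η[G])
    fun s => by
      haveI : ConnectedSpace (G.hom ⁻¹' {s} : Set G.left) := isConnected_iff_connectedSpace.mp (hconn s)
      exact (G.hom.fiberHomeo s).symm.surjective.connectedSpace (G.hom.fiberHomeo s).symm.continuous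
  haveI : LocallyOfFiniteType (Red.bc t G).hom := inferInstanceAs (LocallyOfFiniteType (pullback.snd G.hom t))
  haveI : ConnectedSpace (Red.bc t G).left := GeometricallyConnected.connectedSpace_of_subsingleton (pullback.snd G.hom t)
  exact GrpSchField.irreducibleSpace_of_connectedSpace

variable (X : Over S) (a : AlgGrp.Action G X)

theorem isPreirreducible_fibre (hconn : ∀ s : S, _root_.IsConnected (G.hom ⁻¹' {s}))
    (hΦ : Surjective (lift a.act (snd G X)).left) (s : S) : IsPreirreducible (X.hom ⁻¹' {s}) := by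
  by_cases hne : (X.hom ⁻¹' {s}).Nonempty
  swap
  · rw [Set.not_nonempty_iff_eq_empty.mp hne]
    exact isPreirreducible_empty
  obtain ⟨x, hx⟩ := hne
  let tx := X.left.fromSpecResidueField x ≫ X.hom
  haveI := irreducibleSpace_bc G hconn (K := X.left.residueField x) tx
  let T : Over S := Over.mk ((Red.bc tx G).hom ≫ tx)
  let g : T ⟶ G := Over.homMk (pullback.fst G.hom tx) pullback.condition
  let x' : T ⟶ X := Over.homMk ((Red.bc tx G).hom ≫ X.left.fromSpecResidueField x) (Category.assoc _ _ _)
  let o := (lift g x' ≫ a.act).left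
  have hr : Set.range o = X.hom ⁻¹' {s} := by
    apply subset_antisymm
    · rintro _ ⟨u, rfl⟩
      show X.hom ((lift g x' ≫ a.act).left u) = s
      rw [← Scheme.Hom.comp_apply, Over.w (lift g x' ≫ a.act)]
      show ((Red.bc tx G).hom ≫ X.left.fromSpecResidueField x ≫ X.hom) u = s
      rw [Scheme.Hom.comp_apply, Scheme.Hom.comp_apply, X.left.fromSpecResidueField_apply]
      exact hx
    · intro y hy
      obtain ⟨p, hp1, hp2⟩ := Scheme.Pullback.exists_preimage_pullback (f := X.hom) (g := X.hom) y x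
        (hy.trans hx.symm)
      obtain ⟨v, hv⟩ := hΦ.surj p
      have h1 : a.act.left v = y := by
        refine ((congrArg (fun m => m v) (congrArg Over.Hom.left (lift_fst a.act (snd G X)))).symm.trans
          (Scheme.Hom.comp_apply _ _ v)).trans ?_
        rw [hv]; exact hp1
      have h2 : (snd G X).left v = x := by
        refine ((congrArg (fun m => m v) (congrArg Over.Hom.left (lift_snd a.act (snd G X)))).symm.trans
          (Scheme.Hom.comp_apply _ _ v)).trans ?_
        rw [hv]; exact hp2
      let m : pullback G.hom tx ⟶ pullback G.hom X.hom :=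
        pullback.map _ _ _ _ (𝟙 _) (X.left.fromSpecResidueField x) (𝟙 _) (by simp) (by simp [tx])
      have hm : m = (lift g x').left := by
        apply pullback.hom_ext
        · refine Eq.trans ?_ (congrArg Over.Hom.left (lift_fst g x')).symm
          exact (pullback.lift_fst _ _ _).trans (Category.comp_id _)
        · refine Eq.trans ?_ (congrArg Over.Hom.left (lift_snd g x')).symm
          exact pullback.lift_snd _ _ _
      obtain ⟨u, hu⟩ : v ∈ Set.range m := by
        rw [Scheme.Pullback.range_map]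
        refine ⟨⟨_, rfl⟩, ?_⟩
        rw [X.left.range_fromSpecResidueField]
        exact h2
      exact ⟨u, by rw [← h1, ← hu, hm]; exact Scheme.Hom.comp_apply _ _ _⟩
  rw [← hr]
  haveI : IrreducibleSpace T.left := inferInstanceAs (IrreducibleSpace (Red.bc tx G).left)
  exact ((IrreducibleSpace.isIrreducible_univ _).image o o.continuous.continuousOn).isPreirreducible |>
    fun h => by rwa [Set.image_univ] at h

theorem isSeparated_of_transitive [UniversallyOpen G.hom] (hconn : ∀ s : S, _root_.IsConnected (G.hom ⁻¹' {s}))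
    [LocallyOfFiniteType X.hom] (hΦ : Surjective (lift a.act (snd G X)).left) : IsSeparated X.hom := by
  refine isSeparated_of_dense G X ⊤ (fun _ => trivial) inferInstance a hΦ
    (fun s => inferInstanceAs (LocallyOfFiniteType (pullback.snd X.hom (S.fromSpecResidueField s)))) fun s => ?_
  by_cases hne : (X.hom ⁻¹' {s}).Nonempty
  · obtain ⟨x, hx⟩ := hne
    obtain ⟨_, ⟨U, hU, rfl⟩, hxU, -⟩ := X.left.isBasis_affineOpens.exists_subset_of_mem_open (Set.mem_univ x) isOpen_univ
    haveI : IsAffine (U : Scheme.{u}) := hU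
    refine ⟨U, IsSeparated.of_comp (Scheme.Opens.ι U ≫ X.hom) (terminal.from S), fun y hy => mem_closure_iff.mpr fun N hN hyN => ?_⟩
    obtain ⟨z, hz1, hz2, hz3⟩ := isPreirreducible_fibre G X a hconn hΦ s N U hN U.isOpen ⟨y, hy, hyN⟩ ⟨x, hx, hxU⟩
    exact ⟨z, hz2, hz3, hz1⟩
  · refine ⟨⊥, ?_, ?_⟩
    · haveI : IsEmpty ↥((⊥ : X.left.Opens) : Scheme.{u}) := ⟨fun x => x.2⟩
      exact IsSeparated.of_comp ((⊥ : X.left.Opens).ι ≫ X.hom) (terminal.from S)
    · rw [Set.not_nonempty_iff_eq_empty.mp hne]
      exact Set.empty_subset _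

omit [LocallyOfFiniteType G.hom] in
theorem surjective_shear : Surjective (lift (NonAbH1.trivialAction G).act (snd G G)).left := by
  have h : lift (NonAbH1.trivialAction G).act (snd G G) = (GrpSchField.shearR (G := G)).hom := by
    show lift μ[G] (snd G G) = lift (fst G G * snd G G) (snd G G)
    rw [Hom.mul_def, lift_fst_snd, Category.id_comp]
  rw [h]
  haveI := GrpSchField.isIso_left (GrpSchField.shearR (G := G))
  infer_instance

theorem quasiCompact_of_connected_fibres (hconn : ∀ s : S, _root_.IsConnected (G.hom ⁻¹' {s})) : QuasiCompact G.hom := by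
  rw [quasiCompact_iff_forall_isAffineOpen]
  intro U hU
  let e : ↥(𝟙_ (Over S)).left → G.left := η[G].left
  have hcpt : IsCompact (e '' (U : Set S)) := hU.isCompact.image η[G].left.continuous
  have hsec : ∀ p : S, G.hom (e p) = p := fun p => by
    show G.hom (η[G].left p) = p
    rw [← Scheme.Hom.comp_apply, Over.w η[G]]
    rfl
  obtain ⟨V, hV⟩ := hcpt.elim_finite_subcover
    (fun V : {V : G.left.affineOpens // V.1 ≤ G.hom ⁻¹ᵁ U} => (V.1.1 : Set G.left)) (fun V => V.1.1.isOpen)
    (fun g hg => by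
      obtain ⟨p, hp, rfl⟩ := hg
      obtain ⟨_, ⟨V, hV, rfl⟩, h1, h2⟩ := G.left.isBasis_affineOpens.exists_subset_of_mem_open
        (show e p ∈ G.hom ⁻¹ᵁ U by show G.hom (e p) ∈ U; rw [hsec]; exact hp) (G.hom ⁻¹ᵁ U).isOpen
      exact Set.mem_iUnion.mpr ⟨⟨⟨V, hV⟩, h2⟩, h1⟩)
  let piece : {V : G.left.affineOpens // V.1 ≤ G.hom ⁻¹ᵁ U} → {V : G.left.affineOpens // V.1 ≤ G.hom ⁻¹ᵁ U} → Set G.left :=
    fun A B => μ[G].left '' ((fst G G).left ⁻¹' (A.1.1 : Set G.left) ∩ (snd G G).left ⁻¹' (B.1.1 : Set G.left))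
  suffices h : (G.hom ⁻¹ᵁ U : Set G.left) = ⋃ A ∈ V, ⋃ B ∈ V, piece A B by
    show IsCompact (G.hom ⁻¹ᵁ U : Set G.left)
    rw [h]
    refine V.isCompact_biUnion fun A _ => V.isCompact_biUnion fun B _ => ?_
    have hA : A.1.1.ι ≫ G.hom = (G.hom.resLE U A.1.1 A.2) ≫ U.ι := (G.hom.resLE_comp_ι A.2).symm
    have hB : B.1.1.ι ≫ G.hom = (G.hom.resLE U B.1.1 B.2) ≫ U.ι := (G.hom.resLE_comp_ι B.2).symm
    let m : pullback (G.hom.resLE U A.1.1 A.2) (G.hom.resLE U B.1.1 B.2) ⟶ pullback G.hom G.hom :=
      pullback.map _ _ _ _ A.1.1.ι B.1.1.ι U.ι hA.symm hB.symm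
    haveI : IsAffine (A.1.1 : Scheme.{u}) := A.1.2
    haveI : IsAffine (B.1.1 : Scheme.{u}) := B.1.2
    haveI : IsAffine (U : Scheme.{u}) := hU
    have hr : Set.range m = (fst G G).left ⁻¹' (A.1.1 : Set G.left) ∩ (snd G G).left ⁻¹' (B.1.1 : Set G.left) := by
      rw [Scheme.Pullback.range_map, A.1.1.range_ι, B.1.1.range_ι]
      rfl
    show IsCompact (μ[G].left '' _)
    rw [← hr]
    exact (isCompact_range m.continuous).image μ[G].left.continuous
  apply subset_antisymm
  · intro g hg
    obtain ⟨A, hA, heA⟩ := Set.mem_iUnion₂.mp (hV ⟨G.hom g, hg, rfl⟩)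
    let tg := G.left.fromSpecResidueField g ≫ G.hom
    let c := IsLocalRing.closedPoint (G.left.residueField g)
    let T : Over S := Over.mk tg
    let gT : T ⟶ G := Over.homMk (G.left.fromSpecResidueField g)
    have hone : (1 : T ⟶ G).left c = e (G.hom g) := by
      rw [Hom.one_def, Over.comp_left, Scheme.Hom.comp_apply]
      show η[G].left (tg c) = _
      rw [Scheme.Hom.comp_apply, G.left.fromSpecResidueField_apply]
    let F : Set (G ⊗ G).left := (snd G G).left ⁻¹' {g}
    have hF : IsPreirreducible F := by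
      let m : pullback G.hom tg ⟶ pullback G.hom G.hom :=
        pullback.map _ _ _ _ (𝟙 _) (G.left.fromSpecResidueField g) (𝟙 _) (by simp) (by simp [tg])
      haveI : IrreducibleSpace ↥(pullback G.hom tg) := irreducibleSpace_bc G hconn (K := G.left.residueField g) tg
      have hr : Set.range m = F := by
        rw [Scheme.Pullback.range_map, G.left.range_fromSpecResidueField]
        exact (Set.inter_eq_right.mpr fun w _ => by exact ⟨_, rfl⟩)
      rw [← hr, ← Set.image_univ]
      exact ((IrreducibleSpace.isIrreducible_univ _).image m m.continuous.continuousOn).isPreirreducible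
    let d : G ⊗ G ⟶ G := (fst G G)⁻¹ * snd G G
    have hmem : ∀ β : T ⟶ G, (lift β gT).left c ∈ F := fun β => by
      show (snd G G).left ((lift β gT).left c) = g
      rw [← Scheme.Hom.comp_apply, ← Over.comp_left, lift_snd]
      exact G.left.fromSpecResidueField_apply g c
    obtain ⟨v, hv, hv1, hv2⟩ := hF ((fst G G).left ⁻¹ᵁ A.1.1) (d.left ⁻¹ᵁ A.1.1)
      ((fst G G).left ⁻¹ᵁ A.1.1).isOpen (d.left ⁻¹ᵁ A.1.1).isOpen
      ⟨(lift 1 gT).left c, hmem 1, by
        show (fst G G).left _ ∈ A.1.1
        rw [← Scheme.Hom.comp_apply, ← Over.comp_left, lift_fst, hone]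
        exact heA⟩
      ⟨(lift gT gT).left c, hmem gT, by
        show d.left _ ∈ A.1.1
        rw [← Scheme.Hom.comp_apply, ← Over.comp_left,
          show lift gT gT ≫ d = 1 by simp [d, MonObj.comp_mul, GrpObj.comp_inv], hone]
        exact heA⟩
    refine Set.mem_iUnion₂.mpr ⟨A, hA, Set.mem_iUnion₂.mpr ⟨A, hA, (lift (fst G G) d).left v, ⟨?_, ?_⟩, ?_⟩⟩
    · show (fst G G).left _ ∈ A.1.1
      rw [← Scheme.Hom.comp_apply, ← Over.comp_left, lift_fst]
      exact hv1
    · show (snd G G).left _ ∈ A.1.1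
      rw [← Scheme.Hom.comp_apply, ← Over.comp_left, lift_snd]
      exact hv2
    · rw [← Scheme.Hom.comp_apply, ← Over.comp_left, ← Hom.mul_def,
        show fst G G * d = snd G G by simp [d]]
      exact hv
  · intro g hg
    obtain ⟨A, -, hg⟩ := Set.mem_iUnion₂.mp hg
    obtain ⟨B, -, w, hw, rfl⟩ := Set.mem_iUnion₂.mp hg
    show G.hom (μ[G].left w) ∈ U
    rw [← Scheme.Hom.comp_apply, Over.w μ[G]]
    show (pullback.fst G.hom G.hom ≫ G.hom) w ∈ U
    rw [Scheme.Hom.comp_apply]
    exact A.2 hw.1

end Groth.Agent.HomogSep
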