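import Groth.Agent.GrpSchField.ConnComp
import Groth.Agent.GrpSchField.Orbit
import Groth.Prelude.Def_ActBC

/-!
Orbit maps which are surjective carry maximal points to maximal points.
-/

universe u

open CategoryTheory Limits MonoidalCategory CartesianMonoidalCategory MonObj GrpObj AlgebraicGeometry TopologicalSpace

set_option backward.isDefEq.respectTransparency false
set_option linter.style.haveILetI false

noncomputable section

namespace Groth.Agent.HomogSep

open Groth.Agent.GrpSchField

/-- a dense open of a locally Noetherian scheme contains every maximal point -/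
theorem mem_of_maximal {X : Scheme.{u}} [IsLocallyNoetherian X] {U : X.Opens} (hU : Dense (U : Set X)) {ξ : X}
    (hξ : ∀ y, y ⤳ ξ → ξ ⤳ y) : ξ ∈ U := by
  obtain ⟨_, ⟨W, hW, rfl⟩, hξW, -⟩ := X.isBasis_affineOpens.exists_subset_of_mem_open (Set.mem_univ ξ) isOpen_univ
  haveI : IsNoetherianRing Γ(X, W) := IsLocallyNoetherian.component_noetherian ⟨W, hW⟩
  haveI : NoetherianSpace (W : Set X) := noetherianSpace_of_isAffineOpen W hW
  let O : Set (W : Set X) := Subtype.val ⁻¹' (U : Set X)
  let good : Set (Set (W : Set X)) := {C | C ∈ irreducibleComponents (W : Set X) ∧ (C ∩ O).Nonempty}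
  have hfin : good.Finite := NoetherianSpace.finite_irreducibleComponents.subset fun C hC => hC.1
  have hcl : IsClosed (⋃ C ∈ good, C) := hfin.isClosed_biUnion fun C hC => isClosed_of_mem_irreducibleComponents C hC.1
  have hO : Dense O := hU.preimage W.isOpen.isOpenMap_subtype_val
  obtain ⟨C, ⟨hC, ⟨z, hzC, hzO⟩⟩, hξC⟩ := Set.mem_iUnion₂.mp (closure_minimal
    (fun z hz => Set.mem_biUnion (x := irreducibleComponent z)
      (show irreducibleComponent z ∈ good from
        ⟨irreducibleComponent_mem_irreducibleComponents z, z, mem_irreducibleComponent, hz⟩)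
      mem_irreducibleComponent) hcl (hO.closure_eq.ge (Set.mem_univ (⟨ξ, hξW⟩ : (W : Set X)))))
  haveI : QuasiSober (W : Set X) := W.isOpen.isOpenEmbedding_subtypeVal.quasiSober
  obtain ⟨c, hc⟩ := QuasiSober.sober hC.1 (isClosed_of_mem_irreducibleComponents C hC)
  have h1 : c.1 ⤳ ξ := (hc.specializes hξC).map continuous_subtype_val
  have h2 : ξ = c.1 := ((hξ _ h1).antisymm h1).eq
  rw [h2]
  exact (hc.specializes hzC).mem_open (U.isOpen.preimage continuous_subtype_val) hzO

theorem left_inv_hom {K : Type u} [Field K] {A B : Over (Spec (CommRingCat.of K))} (e : A ≅ B) (x : A.left) :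
    e.inv.left (e.hom.left x) = x := by
  rw [← comp_left_apply, Iso.hom_inv_id]; rfl

theorem left_hom_inv {K : Type u} [Field K] {A B : Over (Spec (CommRingCat.of K))} (e : A ≅ B) (x : B.left) :
    e.hom.left (e.inv.left x) = x := by
  rw [← comp_left_apply, Iso.inv_hom_id]; rfl

variable {Ω : Type u} [Field Ω] [IsAlgClosed Ω] {G X : Over (Spec (CommRingCat.of Ω))} [GrpObj G]
  [LocallyOfFiniteType G.hom] (a : AlgGrp.Action G X)

/-- translation by a rational point -/
def translG (h : 𝟙_ (Over (Spec (CommRingCat.of Ω))) ⟶ G) : G ≅ G where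
  hom := (toUnit G ≫ h) * 𝟙 G
  inv := (toUnit G ≫ h)⁻¹ * 𝟙 G
  hom_inv_id := by simp [MonObj.comp_mul, GrpObj.comp_inv, _root_.mul_assoc]
  inv_hom_id := by simp [MonObj.comp_mul, GrpObj.comp_inv, _root_.mul_assoc]

/-- translation of `X` by a rational point -/
def translX (h : 𝟙_ (Over (Spec (CommRingCat.of Ω))) ⟶ G) : X ≅ X where
  hom := lift (toUnit X ≫ h) (𝟙 X) ≫ a.act
  inv := lift (toUnit X ≫ h)⁻¹ (𝟙 X) ≫ a.act
  hom_inv_id := by
    rw [← Category.assoc, comp_lift, GrpObj.comp_inv, ← Category.assoc (lift _ _ ≫ a.act),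
      toUnit_unique ((lift _ _ ≫ a.act) ≫ toUnit X) (toUnit X), Category.comp_id, ← lift_act_mul, inv_mul_cancel,
      lift_act_one]
  inv_hom_id := by
    rw [← Category.assoc, comp_lift, ← Category.assoc (lift _ _ ≫ a.act),
      toUnit_unique ((lift _ _ ≫ a.act) ≫ toUnit X) (toUnit X), Category.comp_id, ← lift_act_mul, mul_inv_cancel,
      lift_act_one]

theorem translG_orbitMap (h : 𝟙_ (Over (Spec (CommRingCat.of Ω))) ⟶ G) (x : 𝟙_ (Over (Spec (CommRingCat.of Ω))) ⟶ X) :
    (translG h).hom ≫ a.orbitMap x = a.orbitMap x ≫ (translX a h).hom := by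
  simp only [translG, translX, AlgGrp.Action.orbitMap]
  rw [← Category.assoc, comp_lift, Category.comp_id, ← Category.assoc _ (toUnit G),
    toUnit_unique (_ ≫ toUnit G) (toUnit G), lift_act_mul, ← Category.assoc (lift (𝟙 G) _ ≫ a.act), comp_lift,
    Category.comp_id, ← Category.assoc _ (toUnit X), toUnit_unique (_ ≫ toUnit X) (toUnit G)]

theorem orbitMap_gen_maximal (x : 𝟙_ (Over (Spec (CommRingCat.of Ω))) ⟶ X)
    (hsurj : Function.Surjective (a.orbitMap x).left) (g : G.left) :
    ∀ y, y ⤳ (a.orbitMap x).left (gen g) → (a.orbitMap x).left (gen g) ⤳ y := by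
  let o := (a.orbitMap x).left
  haveI : JacobsonSpace G.left := LocallyOfFiniteType.jacobsonSpace G.hom
  obtain ⟨ξ, hξg, hξmax⟩ := exists_max_gen (o g)
  obtain ⟨g', hg'⟩ := hsurj ξ
  have hξ : o (gen g') = ξ := by
    have h : o (gen g') ⤳ ξ := hg' ▸ (gen_specializes g').map o.continuous
    exact (h.antisymm (hξmax _ h)).eq
  obtain ⟨c, hc, hcc⟩ := nonempty_inter_closedPoints (Z := closure {gen g}) ⟨_, subset_closure rfl⟩
    isClosed_closure.isLocallyClosed
  obtain ⟨d, hd, hdd⟩ := nonempty_inter_closedPoints (Z := closure {gen g'}) ⟨_, subset_closure rfl⟩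
    isClosed_closure.isLocallyClosed
  let cs : 𝟙_ (Over (Spec (CommRingCat.of Ω))) ⟶ G := Over.homMk (pointOfClosedPoint G.hom c hcc) (by simp)
  let ds : 𝟙_ (Over (Spec (CommRingCat.of Ω))) ⟶ G := Over.homMk (pointOfClosedPoint G.hom d hdd) (by simp)
  let τ := translG (G := G) (cs * ds⁻¹)
  have hτ : τ.hom.left d = c := by
    have e : ds ≫ τ.hom = cs := by
      show ds ≫ ((toUnit G ≫ (cs * ds⁻¹)) * 𝟙 G) = cs
      rw [MonObj.comp_mul, Category.comp_id, ← Category.assoc, toUnit_unique (ds ≫ toUnit G) (𝟙 _), Category.id_comp, inv_mul_cancel_right]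
    have hdp : ds.left (IsLocalRing.closedPoint Ω) = d := pointOfClosedPoint_apply G.hom d hdd _
    rw [← hdp, ← comp_left_apply, e]
    exact pointOfClosedPoint_apply G.hom c hcc _
  have hτg : gen g = τ.hom.left (gen g') := by
    have h1 : gen c = gen g := (mem_closure_gen_iff.mp hc)
    have h2 : τ.hom.left (gen g') ⤳ c := hτ ▸ (specializes_iff_mem_closure.mpr hd).map τ.hom.left.continuous
    have h3 : gen c ⤳ τ.hom.left (gen g') := gen_specializes_of_specializes h2
    have h4 := h3.map τ.inv.left.continuous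
    rw [left_inv_hom τ] at h4
    rw [← h1, ← eq_gen_of_specializes h4, left_hom_inv τ]
  intro y hy
  have e : o (gen g) = (translX a (cs * ds⁻¹)).hom.left ξ := by
    rw [hτg, ← hξ, ← comp_left_apply, translG_orbitMap, comp_left_apply]
  let t := translX a (cs * ds⁻¹)
  have hinv : t.inv.left (t.hom.left ξ) = ξ := left_inv_hom t ξ
  have h5 : t.inv.left y ⤳ ξ := hinv ▸ (e ▸ hy : y ⤳ t.hom.left ξ).map t.inv.left.continuous
  have h6 := (hξmax _ h5).map t.hom.left.continuous
  rw [left_hom_inv t] at h6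
  show o (gen g) ⤳ y
  rw [e]
  exact h6

theorem surjective_orbitMap (hΦ : Surjective (lift a.act (snd G X)).left)
    (z : 𝟙_ (Over (Spec (CommRingCat.of Ω))) ⟶ X) : Function.Surjective (a.orbitMap z).left := by
  intro ξ
  obtain ⟨v, hv⟩ := hΦ.surj ((lift (ptι ξ) (toUnit _ ≫ z)).left (ptPt ξ))
  have h1 : a.act.left v = ξ := by
    rw [← lift_fst a.act (snd G X), comp_left_apply, hv, lift_fst_apply, ptι_apply]
  have h2 : (snd G X).left v ∈ Set.range z.left := by
    rw [← lift_snd a.act (snd G X), comp_left_apply, hv, lift_snd_apply, comp_left_apply]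
    exact ⟨_, rfl⟩
  obtain ⟨v', rfl⟩ : v ∈ Set.range (G ◁ z).left := by
    rw [← id_tensorHom, range_tensorHom]
    exact ⟨⟨_, rfl⟩, h2⟩
  refine ⟨(fst G _).left v', ?_⟩
  rw [← comp_left_apply, ← h1, ← comp_left_apply]
  congr 2
  rw [AlgGrp.Action.orbitMap, ← Category.assoc, comp_lift, Category.comp_id, ← Category.assoc,
    toUnit_unique (_ ≫ toUnit G) (snd G _)]
  congr 1

/-- some point of a nonempty open of the group moves two rational points into a dense open -/
theorem exists_translate_mem [LocallyOfFiniteType X.hom] (hΦ : Surjective (lift a.act (snd G X)).left)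
    (x y : 𝟙_ (Over (Spec (CommRingCat.of Ω))) ⟶ X) {U : X.left.Opens} (hU : Dense (U : Set X.left))
    {W : G.left.Opens} (hW : (W : Set G.left).Nonempty) :
    ∃ g ∈ W, (a.orbitMap x).left g ∈ U ∧ (a.orbitMap y).left g ∈ U := by
  haveI : IsLocallyNoetherian X.left := LocallyOfFiniteType.isLocallyNoetherian X.hom
  have hsurj := surjective_orbitMap a hΦ
  obtain ⟨g, hg⟩ := hW
  exact ⟨gen g, (gen_specializes g).mem_open W.isOpen hg,
    mem_of_maximal hU (orbitMap_gen_maximal a x (hsurj x) g),
    mem_of_maximal hU (orbitMap_gen_maximal a y (hsurj y) g)⟩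

end Groth.Agent.HomogSep
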