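import Groth.Agent.HomogSep.Field

/-!
A homogeneous space with fibrewise dense separated opens is separated.
-/

universe u

open CategoryTheory Limits MonoidalCategory CartesianMonoidalCategory MonObj GrpObj AlgebraicGeometry TopologicalSpace

set_option backward.isDefEq.respectTransparency false
set_option linter.style.haveILetI false

noncomputable section

namespace Groth.Agent.HomogSep

/-- a field-valued point on the diagonal has equal coordinates -/
theorem fst_eq_snd_of_mem_diagonal {X S : Scheme.{u}} (f : X ⟶ S) {K : Type u} [Field K]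
    (e : Spec (CommRingCat.of K) ⟶ pullback f f) (he : e (IsLocalRing.closedPoint K) ∈ Set.range (pullback.diagonal f)) :
    e ≫ pullback.fst f f = e ≫ pullback.snd f f := by
  obtain ⟨w, hw⟩ := he
  let P := pullback f f
  have hfac : ∃ ψ : P.residueField (pullback.diagonal f w) ⟶ CommRingCat.of K,
      Spec.map ψ ≫ P.fromSpecResidueField _ = e := by
    rw [hw]
    exact ⟨_, (Scheme.SpecToEquivOfField K P).symm_apply_apply e⟩
  obtain ⟨ψ, hψ⟩ := hfac
  let δ := Spec.map ((pullback.diagonal f).residueFieldMap w)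
  haveI : Flat δ := by
    rw [HasRingHomProperty.Spec_iff (P := @Flat)]
    letI := ((pullback.diagonal f).residueFieldMap w).hom.toAlgebra
    exact RingHom.flat_algebraMap_iff.mpr inferInstance
  haveI : Surjective δ := ⟨fun x => ⟨IsLocalRing.closedPoint _, Subsingleton.elim _ _⟩⟩
  suffices h : P.fromSpecResidueField (pullback.diagonal f w) ≫ pullback.fst f f =
      P.fromSpecResidueField (pullback.diagonal f w) ≫ pullback.snd f f by
    rw [← hψ, Category.assoc, Category.assoc, h]
  rw [← cancel_epi δ]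
  simp only [δ, P, ← Category.assoc, Scheme.Hom.SpecMap_residueFieldMap_fromSpecResidueField]
  simp

theorem mem_diagonal_of_fst_eq_snd {X S : Scheme.{u}} (f : X ⟶ S) {T : Scheme.{u}} (e : T ⟶ pullback f f)
    (h : e ≫ pullback.fst f f = e ≫ pullback.snd f f) (t : T) : e t ∈ Set.range (pullback.diagonal f) := by
  refine ⟨(e ≫ pullback.fst f f) t, ?_⟩
  rw [← Scheme.Hom.comp_apply, show (e ≫ pullback.fst f f) ≫ pullback.diagonal f = e by
    apply pullback.hom_ext <;> simp [h]]

theorem surjective_bc {S : Scheme.{u}} {G X : Over S} [GrpObj G] (a : AlgGrp.Action G X)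
    (hΦ : Surjective (lift a.act (snd G X)).left) {S' : Scheme.{u}} (t : S' ⟶ S) :
    Surjective (lift (a.bc t).act (snd (Red.bc t G) (Red.bc t X))).left := by
  let G' := Red.bc t G
  let X' := Red.bc t X
  let a' := a.bc t
  show Surjective (lift a'.act (snd G' X')).left
  have key : lift a'.act (snd _ _) ≫ Functor.LaxMonoidal.μ (Over.pullback t) X X =
      Functor.LaxMonoidal.μ (Over.pullback t) G X ≫ (Over.pullback t).map (lift a.act (snd G X)) := by
    rw [← Functor.Monoidal.lift_μ, comp_lift_assoc, Functor.Monoidal.μ_snd, AlgGrp.Action.bc_act]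
  have h2 : lift a'.act (snd G' X') = Functor.LaxMonoidal.μ (Over.pullback t) G X ≫
      (Over.pullback t).map (lift a.act (snd G X)) ≫ inv (Functor.LaxMonoidal.μ (Over.pullback t) X X) := by
    rw [← Category.assoc, IsIso.eq_comp_inv, key]
  haveI : Surjective ((Over.pullback t).map (lift a.act (snd G X))).left := by
    refine MorphismProperty.of_isPullback (P := @Surjective) (g := (lift a.act (snd G X)).left)
      (f' := pullback.fst (G ⊗ X).hom t) (f := pullback.fst (X ⊗ X).hom t) ?_ hΦ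
    refine IsPullback.of_bot ?_ (ActBC.pullback_map_left_fst t (lift a.act (snd G X))).symm
      (IsPullback.of_hasPullback (X ⊗ X).hom t)
    have h := Over.w (lift a.act (snd G X))
    have h' := Over.w ((Over.pullback t).map (lift a.act (snd G X)))
    rw [h]
    refine (IsPullback.of_hasPullback (G ⊗ X).hom t).of_iso (Iso.refl _) (Iso.refl _) (Iso.refl _) (Iso.refl _)
      ?_ ?_ ?_ ?_
    · simp
    · simp only [Iso.refl_hom, Category.id_comp, Category.comp_id]; exact h'.symm
    · simp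
    · simp
  rw [h2, Over.comp_left, Over.comp_left]
  haveI := GrpSchField.isIso_left (asIso (Functor.LaxMonoidal.μ (Over.pullback t) G X))
  haveI := GrpSchField.isIso_left (asIso (inv (Functor.LaxMonoidal.μ (Over.pullback t) X X)))
  haveI : IsIso (Functor.LaxMonoidal.μ (Over.pullback t) G X).left := by assumption
  haveI : IsIso (inv (Functor.LaxMonoidal.μ (Over.pullback t) X X)).left := by assumption
  infer_instance

theorem exists_point_of_unit {S : Scheme.{u}} (G : Over S) [GrpObj G] (W : G.left.Opens)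
    {S' : Scheme.{u}} (t : S' ⟶ S) (c : S') (hW1 : η[G].left (t c) ∈ W) :
    ∃ g : (Red.bc t G).left, pullback.fst G.hom t g ∈ W ∧ pullback.snd G.hom t g = c := by
  obtain ⟨g, hg, hg'⟩ := Scheme.Pullback.exists_preimage_pullback (f := G.hom) (g := t)
    (η[G].left (t c)) c (by rw [← Scheme.Hom.comp_apply, Over.w η[G]]; rfl)
  exact ⟨g, by rw [hg]; exact hW1, hg'⟩

theorem isSeparated_of_translate {S : Scheme.{u}} (G X : Over S) [GrpObj G]
    (W : G.left.Opens) (hWo : UniversallyOpen (W.ι ≫ G.hom)) (a : AlgGrp.Action G X)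
    (hT : ∀ (Ω : Type u) [Field Ω] [IsAlgClosed Ω] (t : Spec (CommRingCat.of Ω) ⟶ S),
      ∃ U : X.left.Opens, IsSeparated (U.ι ≫ X.hom) ∧
        ∀ x y : 𝟙_ (Over (Spec (CommRingCat.of Ω))) ⟶ Red.bc t X, ∃ g : (Red.bc t G).left,
          pullback.fst G.hom t g ∈ W ∧ pullback.fst X.hom t (((a.bc t).orbitMap x).left g) ∈ U ∧
            pullback.fst X.hom t (((a.bc t).orbitMap y).left g) ∈ U) :
    IsSeparated X.hom := by
  refine ⟨IsClosedImmersion.of_isPreimmersion _ (isClosed_of_closure_subset fun p hp => ?_)⟩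
  let P : Scheme.{u} := pullback X.hom X.hom
  let Ω := AlgebraicClosure (P.residueField p)
  let e₀ : Spec (CommRingCat.of Ω) ⟶ P :=
    Spec.map (CommRingCat.ofHom (algebraMap (P.residueField p) Ω)) ≫ P.fromSpecResidueField p
  have he₀ : e₀ (IsLocalRing.closedPoint Ω) = p := P.fromSpecResidueField_apply p _
  let t : Spec (CommRingCat.of Ω) ⟶ S := e₀ ≫ (X ⊗ X).hom
  let π : Over.mk t ⟶ X ⊗ X := Over.homMk e₀
  obtain ⟨U, hUsep, hUT⟩ := hT Ω t
  let G' := Red.bc t G
  let X' := Red.bc t X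
  let a' := a.bc t
  let mkpt : (Over.mk t ⟶ X) → (𝟙_ (Over (Spec (CommRingCat.of Ω))) ⟶ X') := fun x =>
    Over.homMk (pullback.lift x.left (𝟙 _) (by rw [Category.id_comp]; exact Over.w x)) (pullback.lift_snd _ _ _)
  let x₀ := π ≫ fst X X
  let y₀ := π ≫ snd X X
  obtain ⟨g, hgW, hgx, hgy⟩ := hUT (mkpt x₀) (mkpt y₀)
  -- the scheme of pairs moved by `W`
  let W₀ : Over S := Over.mk (W.ι ≫ G.hom)
  let jW : W₀ ⟶ G := Over.homMk W.ι
  let A : Over S := W₀ ⊗ (X ⊗ X)
  let act₁ : A ⟶ X := lift (fst W₀ (X ⊗ X) ≫ jW) (snd W₀ (X ⊗ X) ≫ fst X X) ≫ a.act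
  let act₂ : A ⟶ X := lift (fst W₀ (X ⊗ X) ≫ jW) (snd W₀ (X ⊗ X) ≫ snd X X) ≫ a.act
  let q : A.left ⟶ P := (snd W₀ (X ⊗ X)).left
  haveI : UniversallyOpen W₀.hom := hWo
  haveI : UniversallyOpen q := inferInstanceAs (UniversallyOpen (pullback.snd W₀.hom (X ⊗ X).hom))
  let Z : A.left.Opens := act₁.left ⁻¹ᵁ U ⊓ act₂.left ⁻¹ᵁ U
  obtain ⟨z, hzZ, hzq⟩ : ∃ z ∈ Z, q z = p := by
    let Tg : Over S := Over.mk (G'.left.fromSpecResidueField g ≫ G'.hom ≫ t)
    let gS : Tg ⟶ G := Over.homMk (G'.left.fromSpecResidueField g ≫ pullback.fst G.hom t) (by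
      simp [Tg, G', pullback.condition])
    have hgr : Set.range gS.left ⊆ Set.range W.ι := by
      rintro _ ⟨u, rfl⟩
      rw [W.range_ι]
      show (G'.left.fromSpecResidueField g ≫ pullback.fst G.hom t) u ∈ W
      rw [Scheme.Hom.comp_apply, G'.left.fromSpecResidueField_apply]
      exact hgW
    let gW : Tg ⟶ W₀ := Over.homMk (IsOpenImmersion.lift W.ι gS.left hgr) (by
      show _ ≫ W.ι ≫ G.hom = _
      rw [IsOpenImmersion.lift_fac_assoc, Over.w gS])
    have hgW' : gW ≫ jW = gS := Over.OverMorphism.ext (IsOpenImmersion.lift_fac _ _ _)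
    let π₂ : Tg ⟶ X ⊗ X := (Over.homMk (G'.left.fromSpecResidueField g ≫ G'.hom) (Category.assoc _ _ _) :
      Tg ⟶ Over.mk t) ≫ π
    let c := IsLocalRing.closedPoint (G'.left.residueField g)
    have horb : ∀ x : Over.mk t ⟶ X, (a'.orbitMap (mkpt x)).left ≫ pullback.fst X.hom t =
        (lift (Over.homMk (pullback.fst G.hom t) pullback.condition : Over.mk (G'.hom ≫ t) ⟶ G)
          ((Over.homMk G'.hom rfl : Over.mk (G'.hom ≫ t) ⟶ Over.mk t) ≫ x)).left ≫ a.act.left := by
      intro x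
      rw [AlgGrp.Action.orbitMap, AlgGrp.Action.bc_act, Over.comp_left, Over.comp_left, Category.assoc, Category.assoc,
        ActBC.pullback_map_left_fst, ← Category.assoc, ← Category.assoc]
      congr 1
      apply pullback.hom_ext
      · rw [Category.assoc, Category.assoc, ActBC.μ_left_fst_fst, ← Category.assoc]
        have e1 := congrArg CommaMorphism.left (lift_fst (𝟙 G') (toUnit G' ≫ mkpt x))
        have e2 := congrArg CommaMorphism.left (lift_fst
          (Over.homMk (pullback.fst G.hom t) pullback.condition : Over.mk (G'.hom ≫ t) ⟶ G)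
          ((Over.homMk G'.hom rfl : Over.mk (G'.hom ≫ t) ⟶ Over.mk t) ≫ x))
        refine (congrArg (· ≫ pullback.fst G.hom t) e1).trans ?_
        exact (Category.id_comp _).trans e2.symm
      · rw [Category.assoc, Category.assoc, ActBC.μ_left_fst_snd, ← Category.assoc]
        have e1 := congrArg CommaMorphism.left (lift_snd (𝟙 G') (toUnit G' ≫ mkpt x))
        have e2 := congrArg CommaMorphism.left (lift_snd
          (Over.homMk (pullback.fst G.hom t) pullback.condition : Over.mk (G'.hom ≫ t) ⟶ G)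
          ((Over.homMk G'.hom rfl : Over.mk (G'.hom ≫ t) ⟶ Over.mk t) ≫ x))
        refine (congrArg (· ≫ pullback.fst X.hom t) e1).trans (Eq.trans ?_ e2.symm)
        show ((toUnit G').left ≫ (mkpt x).left) ≫ pullback.fst X.hom t = G'.hom ≫ x.left
        rw [Category.assoc, show (mkpt x).left ≫ pullback.fst X.hom t = x.left from pullback.lift_fst _ _ _]
        rfl
    have hpt : ∀ x : Over.mk t ⟶ X, ((Over.homMk (G'.left.fromSpecResidueField g) rfl :
        Tg ⟶ Over.mk (G'.hom ≫ t)) ≫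
        (lift (Over.homMk (pullback.fst G.hom t) pullback.condition : Over.mk (G'.hom ≫ t) ⟶ G)
          ((Over.homMk G'.hom rfl : Over.mk (G'.hom ≫ t) ⟶ Over.mk t) ≫ x)) ≫ a.act).left c =
        pullback.fst X.hom t ((a'.orbitMap (mkpt x)).left g) := by
      intro x
      rw [Over.comp_left, Scheme.Hom.comp_apply,
        show (Over.homMk (G'.left.fromSpecResidueField g) rfl : Tg ⟶ Over.mk (G'.hom ≫ t)).left c = g from
          G'.left.fromSpecResidueField_apply g c]
      exact (congrArg (fun f => f g) (horb x)).symm.trans (Scheme.Hom.comp_apply _ _ g)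
    refine ⟨(lift gW π₂).left c, ⟨?_, ?_⟩, ?_⟩
    · show act₁.left ((lift gW π₂).left c) ∈ U
      rw [← Scheme.Hom.comp_apply, ← Over.comp_left]
      have : lift gW π₂ ≫ act₁ = (Over.homMk (G'.left.fromSpecResidueField g) rfl :
          Tg ⟶ Over.mk (G'.hom ≫ t)) ≫
          (lift (Over.homMk (pullback.fst G.hom t) pullback.condition : Over.mk (G'.hom ≫ t) ⟶ G)
            ((Over.homMk G'.hom rfl : Over.mk (G'.hom ≫ t) ⟶ Over.mk t) ≫ x₀)) ≫ a.act := by
        simp only [act₁, π₂, comp_lift_assoc, lift_fst_assoc, lift_snd_assoc, hgW', x₀, Category.assoc]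
        rfl
      rw [this, hpt]
      exact hgx
    · show act₂.left ((lift gW π₂).left c) ∈ U
      rw [← Scheme.Hom.comp_apply, ← Over.comp_left]
      have : lift gW π₂ ≫ act₂ = (Over.homMk (G'.left.fromSpecResidueField g) rfl :
          Tg ⟶ Over.mk (G'.hom ≫ t)) ≫
          (lift (Over.homMk (pullback.fst G.hom t) pullback.condition : Over.mk (G'.hom ≫ t) ⟶ G)
            ((Over.homMk G'.hom rfl : Over.mk (G'.hom ≫ t) ⟶ Over.mk t) ≫ y₀)) ≫ a.act := by
        simp only [act₂, π₂, comp_lift_assoc, lift_fst_assoc, lift_snd_assoc, hgW', y₀, Category.assoc]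
        rfl
      rw [this, hpt]
      exact hgy
    · show q ((lift gW π₂).left c) = p
      rw [← Scheme.Hom.comp_apply]
      show (lift gW π₂ ≫ snd W₀ (X ⊗ X)).left c = p
      rw [lift_snd]
      show ((G'.left.fromSpecResidueField g ≫ G'.hom) ≫ e₀) c = p
      rw [Scheme.Hom.comp_apply,
        Subsingleton.elim (α := Spec (CommRingCat.of Ω)) ((G'.left.fromSpecResidueField g ≫ G'.hom) c)
          (IsLocalRing.closedPoint Ω)]
      exact he₀
  -- the moved pair lies on the diagonal of `U`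
  let Zo : Over S := Over.mk (Z.ι ≫ A.hom)
  let jZ : Zo ⟶ A := Over.homMk Z.ι
  let r₁ : (Z : Scheme.{u}) ⟶ U := IsOpenImmersion.lift U.ι (Z.ι ≫ act₁.left) (by
    rw [U.range_ι]; rintro _ ⟨u, rfl⟩; rw [Scheme.Hom.comp_apply]; exact u.2.1)
  let r₂ : (Z : Scheme.{u}) ⟶ U := IsOpenImmersion.lift U.ι (Z.ι ≫ act₂.left) (by
    rw [U.range_ι]; rintro _ ⟨u, rfl⟩; rw [Scheme.Hom.comp_apply]; exact u.2.2)
  let Ψ : (Z : Scheme.{u}) ⟶ pullback (U.ι ≫ X.hom) (U.ι ≫ X.hom) := pullback.lift r₁ r₂ (by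
    simp only [r₁, r₂, IsOpenImmersion.lift_fac_assoc, Category.assoc, Over.w act₁, Over.w act₂])
  haveI := hUsep
  have hcl : IsClosed (Set.range (pullback.diagonal (U.ι ≫ X.hom))) :=
    (pullback.diagonal (U.ι ≫ X.hom)).isClosedEmbedding.isClosed_range
  have hcoord : ∀ u : Z, ((Z : Scheme.{u}).fromSpecResidueField u ≫ Z.ι) ≫ act₁.left =
        ((Z : Scheme.{u}).fromSpecResidueField u ≫ Z.ι) ≫ act₂.left ↔
      Ψ u ∈ Set.range (pullback.diagonal (U.ι ≫ X.hom)) := by
    intro u
    have e1 : ((Z : Scheme.{u}).fromSpecResidueField u ≫ Ψ) ≫ pullback.fst _ _ ≫ U.ι =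
        ((Z : Scheme.{u}).fromSpecResidueField u ≫ Z.ι) ≫ act₁.left := by simp [Ψ, r₁]
    have e2 : ((Z : Scheme.{u}).fromSpecResidueField u ≫ Ψ) ≫ pullback.snd _ _ ≫ U.ι =
        ((Z : Scheme.{u}).fromSpecResidueField u ≫ Z.ι) ≫ act₂.left := by simp [Ψ, r₂]
    have e : ((Z : Scheme.{u}).fromSpecResidueField u ≫ Ψ) (IsLocalRing.closedPoint _) = Ψ u :=
      (Scheme.Hom.comp_apply _ _ _).trans (congrArg Ψ ((Z : Scheme.{u}).fromSpecResidueField_apply u _))
    rw [← e1, ← e2]
    constructor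
    · intro h
      have := mem_diagonal_of_fst_eq_snd (U.ι ≫ X.hom) ((Z : Scheme.{u}).fromSpecResidueField u ≫ Ψ)
        (by rw [← cancel_mono U.ι]; simpa using h) (IsLocalRing.closedPoint _)
      exact e ▸ this
    · intro h
      have := fst_eq_snd_of_mem_diagonal (U.ι ≫ X.hom) (K := (Z : Scheme.{u}).residueField u)
        ((Z : Scheme.{u}).fromSpecResidueField u ≫ Ψ)
        (e.symm ▸ h)
      rw [← Category.assoc, this, Category.assoc]
  have hxy : ∀ u : Z, q u.1 ∈ Set.range (pullback.diagonal X.hom) ↔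
      ((Z : Scheme.{u}).fromSpecResidueField u ≫ Z.ι) ≫ act₁.left =
        ((Z : Scheme.{u}).fromSpecResidueField u ≫ Z.ι) ≫ act₂.left := by
    intro u
    let Tu : Over S := Over.mk ((Z : Scheme.{u}).fromSpecResidueField u ≫ Z.ι ≫ A.hom)
    let ju : Tu ⟶ A := Over.homMk ((Z : Scheme.{u}).fromSpecResidueField u ≫ Z.ι) (Category.assoc _ _ _)
    have hq : (ju.left ≫ q) (IsLocalRing.closedPoint _) = q u.1 := by
      show ((((Z : Scheme.{u}).fromSpecResidueField u ≫ Z.ι) ≫ q)) _ = _
      rw [Scheme.Hom.comp_apply, Scheme.Hom.comp_apply]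
      exact congrArg (fun w => q (Z.ι w)) ((Z : Scheme.{u}).fromSpecResidueField_apply u _)
    constructor
    · intro h
      have h1 := fst_eq_snd_of_mem_diagonal X.hom (K := (Z : Scheme.{u}).residueField u) (ju.left ≫ q) (hq ▸ h)
      have h2 : ju ≫ snd W₀ (X ⊗ X) ≫ fst X X = ju ≫ snd W₀ (X ⊗ X) ≫ snd X X :=
        Over.OverMorphism.ext ((Category.assoc _ _ _).symm.trans (h1.trans (Category.assoc _ _ _)))
      show (ju ≫ act₁).left = (ju ≫ act₂).left
      simp only [act₁, act₂, comp_lift_assoc, h2]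
    · intro h
      have h1 : ju ≫ act₁ = ju ≫ act₂ := Over.OverMorphism.ext h
      simp only [act₁, act₂, comp_lift_assoc] at h1
      have h2 := congrArg (fun v => lift (ju ≫ fst W₀ (X ⊗ X) ≫ jW)⁻¹ v ≫ a.act) h1
      simp only [← GrpSchField.lift_act_mul, inv_mul_cancel, GrpSchField.lift_act_one] at h2
      rw [← hq]
      exact mem_diagonal_of_fst_eq_snd X.hom (ju.left ≫ q)
        ((Category.assoc _ _ _).trans ((congrArg Over.Hom.left h2).trans (Category.assoc _ _ _).symm)) _
  have hclos : (⟨z, hzZ⟩ : Z) ∈ closure {u : Z | q u.1 ∈ Set.range (pullback.diagonal X.hom)} := by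
    rw [mem_closure_iff]
    intro N hN hzN
    have hO : IsOpen (q '' (Subtype.val '' N)) := q.isOpenMap _ (Z.isOpen.isOpenMap_subtype_val _ hN)
    obtain ⟨_, ⟨_, ⟨u, hu, rfl⟩, rfl⟩, hd⟩ := mem_closure_iff.mp hp _ hO ⟨z, ⟨_, hzN, rfl⟩, hzq⟩
    exact ⟨u, hu, hd⟩
  have := (hcl.preimage Ψ.continuous).closure_subset_iff.mpr
    (fun u hu => (hcoord u).mp ((hxy u).mp hu)) hclos
  have h := (hxy ⟨z, hzZ⟩).mpr ((hcoord _).mpr this)
  rwa [show q z = p from hzq] at h

theorem isSeparated_of_dense {S : Scheme.{u}} (G X : Over S) [GrpObj G] [LocallyOfFiniteType G.hom]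
    (W : G.left.Opens) (hW1 : ∀ p : ↥(𝟙_ (Over S)).left, η[G].left p ∈ W) (hWo : UniversallyOpen (W.ι ≫ G.hom))
    (a : AlgGrp.Action G X) (hΦ : Surjective (lift a.act (snd G X)).left)
    (hft : ∀ s : S, LocallyOfFiniteType (X.hom.fiberToSpecResidueField s))
    (hU : ∀ s : S, ∃ U : X.left.Opens, IsSeparated (U.ι ≫ X.hom) ∧
      X.hom ⁻¹' {s} ⊆ closure ((U : Set X.left) ∩ X.hom ⁻¹' {s})) :
    IsSeparated X.hom := by
  refine isSeparated_of_translate G X W hWo a fun Ω _ _ t => ?_
  obtain ⟨ω, hω⟩ : ∃ ω, Spec.map ω ≫ S.fromSpecResidueField (t (IsLocalRing.closedPoint Ω)) = t :=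
    ⟨_, (Scheme.SpecToEquivOfField Ω S).symm_apply_apply t⟩
  let s := t (IsLocalRing.closedPoint Ω)
  obtain ⟨U, hUsep, hUd⟩ := hU s
  refine ⟨U, hUsep, fun x y => ?_⟩
  let X' := Red.bc t X
  haveI : LocallyOfFiniteType (Red.bc t G).hom := inferInstanceAs (LocallyOfFiniteType (pullback.snd G.hom t))
  let m : X'.left ⟶ X.hom.fiber s := pullback.map _ _ _ _ (𝟙 _) (Spec.map ω) (𝟙 _) (by simp) (by rw [Category.comp_id]; exact hω.symm)
  have hm : IsPullback m X'.hom (X.hom.fiberToSpecResidueField s) (Spec.map ω) := by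
    refine IsPullback.of_right ?_ (pullback.lift_snd _ _ _) (IsPullback.of_hasPullback X.hom (S.fromSpecResidueField s))
    rw [show m ≫ pullback.fst X.hom (S.fromSpecResidueField s) = pullback.fst X.hom t by simp [m], hω]
    exact IsPullback.of_hasPullback X.hom t
  haveI : LocallyOfFiniteType X'.hom := MorphismProperty.of_isPullback hm (hft s)
  haveI : UniversallyOpen m := MorphismProperty.of_isPullback hm.flip inferInstance
  have hmem : ∀ u, pullback.fst X.hom t u = X.hom.fiberι s (m u) := fun u => by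
    rw [← Scheme.Hom.comp_apply, show m ≫ X.hom.fiberι s = pullback.fst X.hom t from
      (pullback.lift_fst _ _ _).trans (Category.comp_id _)]
    rfl
  let U' : X'.left.Opens := (pullback.fst X.hom t) ⁻¹ᵁ U
  have hU' : Dense (U' : Set X'.left) := by
    have h : Dense ((X.hom.fiberι s) ⁻¹' (U : Set X.left)) := fun z => by
      rw [(X.hom.fiberι s).isEmbedding.isInducing.closure_eq_preimage_closure_image, Set.mem_preimage,
        Set.image_preimage_eq_inter_range, Scheme.Hom.range_fiberι]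
      exact hUd ((X.hom.range_fiberι s).le ⟨z, rfl⟩)
    have h2 := h.preimage m.isOpenMap
    convert h2 using 1
    ext u
    show pullback.fst X.hom t u ∈ (U : Set X.left) ↔ _
    rw [hmem]
    rfl
  obtain ⟨g, hg, -⟩ := exists_point_of_unit G W t (IsLocalRing.closedPoint Ω) (hW1 s)
  exact exists_translate_mem (a.bc t) (surjective_bc a hΦ t) x y hU' (W := (pullback.fst G.hom t) ⁻¹ᵁ W) ⟨g, hg⟩

end Groth.Agent.HomogSep
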