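import Groth.Agent.HomogSep.Conn

/-!
Homogeneous spaces whose fibres are quasi-separated and connected, without finiteness.
-/

universe u

open CategoryTheory Limits MonoidalCategory CartesianMonoidalCategory MonObj GrpObj AlgebraicGeometry TopologicalSpace

set_option backward.isDefEq.respectTransparency false
set_option linter.style.haveILetI false

noncomputable section

namespace Groth.Agent.HomogSep

open Groth.Agent.GrpSchField

theorem isOpen_unitComp {K : Type u} [Field K] {G : Over (Spec (CommRingCat.of K))} [GrpObj G]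
    [LocallyOfFiniteType G.hom] : IsOpen (unitComp G) := by
  haveI : IsLocallyNoetherian G.left := LocallyOfFiniteType.isLocallyNoetherian G.hom
  rw [isOpen_iff_forall_mem_open]
  intro x hx
  obtain ⟨_, ⟨W, hW, rfl⟩, hxW, -⟩ := G.left.isBasis_affineOpens.exists_subset_of_mem_open (Set.mem_univ x) isOpen_univ
  haveI : IsNoetherianRing Γ(G.left, W) := IsLocallyNoetherian.component_noetherian ⟨W, hW⟩
  haveI : NoetherianSpace (W : Set G.left) := noetherianSpace_of_isAffineOpen W hW
  let M : Set (W : Set G.left) := {w | gen w.1 = w.1}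
  have hM : M.Finite := by
    refine Set.Finite.of_finite_image (f := fun w => closure ({w} : Set (W : Set G.left)))
      (NoetherianSpace.finite_irreducibleComponents.subset ?_) ?_
    · rintro _ ⟨w, hw, rfl⟩
      refine ⟨isIrreducible_singleton.closure, fun Z hZ hle => ?_⟩
      intro z hz
      haveI : QuasiSober (W : Set G.left) := W.isOpen.isOpenEmbedding_subtypeVal.quasiSober
      obtain ⟨c, hc⟩ := QuasiSober.sober hZ.closure isClosed_closure
      have h1 : c.1 ⤳ w.1 := (hc.specializes (subset_closure (hle (subset_closure rfl)))).map continuous_subtype_val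
      have h2 : c = w := Subtype.ext ((eq_gen_of_specializes (hw.symm ▸ h1)).trans hw)
      exact h2 ▸ (hc.specializes (subset_closure hz)).mem_closure
    · intro w hw w' hw' h
      have h' : w.1 ⤳ w'.1 :=
        (specializes_iff_mem_closure.mpr ((show closure {w} = closure {w'} from h).ge (subset_closure rfl))).map
          continuous_subtype_val
      exact Subtype.ext ((eq_gen_of_specializes (hw'.symm ▸ h')).trans hw')
  let bad : Set (W : Set G.left) := {w ∈ M | w.1 ≠ gen (e G)}
  have hcl : IsClosed (⋃ w ∈ bad, closure ({w} : Set (W : Set G.left))) :=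
    (hM.subset fun w hw => hw.1).isClosed_biUnion fun _ _ => isClosed_closure
  refine ⟨Subtype.val '' (⋃ w ∈ bad, closure {w})ᶜ, ?_, W.isOpen.isOpenMap_subtype_val _ hcl.isOpen_compl,
    ⟨x, hxW⟩, ?_, rfl⟩
  · rintro _ ⟨y, hy, rfl⟩
    by_contra hne
    have hgW : gen y.1 ∈ W := (gen_specializes y.1).mem_open W.isOpen y.2
    refine hy (Set.mem_biUnion (x := ⟨gen y.1, hgW⟩) ⟨gen_gen y.1, fun h => hne (mem_closure_gen_iff.mpr ?_)⟩ ?_)
    · exact h
    · exact (subtype_specializes_iff _ _).mpr (gen_specializes y.1) |>.mem_closure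
  · simp only [Set.mem_compl_iff, Set.mem_iUnion]
    rintro ⟨w, ⟨hwM, hne⟩, hwx⟩
    refine hne ?_
    have h1 : w.1 ⤳ x := (specializes_iff_mem_closure.mpr hwx).map continuous_subtype_val
    rw [show w.1 = gen w.1 from hwM.symm, gen_eq_of_specializes h1]
    exact mem_closure_gen_iff.mp hx

variable {Ω : Type u} [Field Ω] [IsAlgClosed Ω] {G X : Over (Spec (CommRingCat.of Ω))} [GrpObj G]
  [LocallyOfFiniteType G.hom] (a : AlgGrp.Action G X)

omit [IsAlgClosed Ω] [LocallyOfFiniteType G.hom] in
theorem translG_left (h : 𝟙_ (Over (Spec (CommRingCat.of Ω))) ⟶ G) (d : 𝟙_ (Over (Spec (CommRingCat.of Ω))) ⟶ G) :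
    d ≫ (translG h).hom = h * d := by
  show d ≫ ((toUnit G ≫ h) * 𝟙 G) = h * d
  rw [MonObj.comp_mul, Category.comp_id, ← Category.assoc, toUnit_unique (d ≫ toUnit G) (𝟙 _), Category.id_comp]

/-- right translation by a rational point -/
def rtransl (d : 𝟙_ (Over (Spec (CommRingCat.of Ω))) ⟶ G) : G ≅ G where
  hom := 𝟙 G * (toUnit G ≫ d)
  inv := 𝟙 G * (toUnit G ≫ d)⁻¹
  hom_inv_id := by simp [MonObj.comp_mul, GrpObj.comp_inv, _root_.mul_assoc]
  inv_hom_id := by simp [MonObj.comp_mul, GrpObj.comp_inv, _root_.mul_assoc]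

omit [IsAlgClosed Ω] [LocallyOfFiniteType G.hom] in
theorem rtransl_left (h : 𝟙_ (Over (Spec (CommRingCat.of Ω))) ⟶ G) (d : 𝟙_ (Over (Spec (CommRingCat.of Ω))) ⟶ G) :
    h ≫ (rtransl d).hom = h * d := by
  show h ≫ (𝟙 G * (toUnit G ≫ d)) = h * d
  rw [MonObj.comp_mul, Category.comp_id, ← Category.assoc, toUnit_unique (h ≫ toUnit G) (𝟙 _), Category.id_comp]

omit [IsAlgClosed Ω] [LocallyOfFiniteType G.hom] in
theorem gen_map_iso (e : G ≅ G) (x : G.left) : gen (e.hom.left x) = e.hom.left (gen x) := by
  have h1 : gen (e.hom.left x) ⤳ e.hom.left (gen x) :=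
    gen_specializes_of_specializes ((gen_specializes x).map e.hom.left.continuous)
  have h2 := h1.map e.inv.left.continuous
  rw [left_inv_hom] at h2
  have h3 := eq_gen_of_specializes h2
  rw [← h3, left_hom_inv]

/-- the rational point of a section -/
abbrev pt₀ {A : Over (Spec (CommRingCat.of Ω))} (x : 𝟙_ (Over (Spec (CommRingCat.of Ω))) ⟶ A) : A.left :=
  x.left (IsLocalRing.closedPoint Ω)

theorem one_pt : (1 : 𝟙_ (Over (Spec (CommRingCat.of Ω))) ⟶ G).left (IsLocalRing.closedPoint Ω) = e G :=
  one_apply (W := 𝟙_ (Over (Spec (CommRingCat.of Ω)))) _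

theorem exists_section_of_closed {A : Over (Spec (CommRingCat.of Ω))} [LocallyOfFiniteType A.hom] {c : A.left}
    (hc : c ∈ closedPoints A.left) : ∃ cs : 𝟙_ (Over (Spec (CommRingCat.of Ω))) ⟶ A, pt₀ cs = c :=
  ⟨Over.homMk (pointOfClosedPoint A.hom c hc) (by simp), pointOfClosedPoint_apply A.hom c hc _⟩

theorem translX_orbit (h : 𝟙_ (Over (Spec (CommRingCat.of Ω))) ⟶ G) (x : 𝟙_ (Over (Spec (CommRingCat.of Ω))) ⟶ X)
    (g : G.left) : (translX a h).hom.left ((a.orbitMap x).left g) = (a.orbitMap x).left ((translG h).hom.left g) := by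
  rw [← comp_left_apply, ← comp_left_apply, translG_orbitMap]

/-- a maximal point with a given specialisation is unique -/
theorem orbitMap_gen_unique (x : 𝟙_ (Over (Spec (CommRingCat.of Ω))) ⟶ X)
    (hsurj : Function.Surjective (a.orbitMap x).left) (g : G.left) (ξ : X.left)
    (hmax : ∀ y, y ⤳ ξ → ξ ⤳ y) (hξ : ξ ⤳ (a.orbitMap x).left g) : ξ = (a.orbitMap x).left (gen g) := by
  haveI : JacobsonSpace G.left := LocallyOfFiniteType.jacobsonSpace G.hom
  let o := (a.orbitMap x).left
  obtain ⟨g', hg'⟩ := hsurj ξ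
  have hξ' : o (gen g') = ξ := by
    have h : o (gen g') ⤳ ξ := hg' ▸ (gen_specializes g').map o.continuous
    exact (h.antisymm (hmax _ h)).eq
  obtain ⟨c, hc, hcc⟩ := nonempty_inter_closedPoints (Z := closure {g}) ⟨_, subset_closure rfl⟩
    isClosed_closure.isLocallyClosed
  obtain ⟨c', hc', hcc'⟩ := nonempty_inter_closedPoints (Z := closure {gen g'}) ⟨_, subset_closure rfl⟩
    isClosed_closure.isLocallyClosed
  obtain ⟨cs, hcs⟩ := exists_section_of_closed (A := G) hcc
  obtain ⟨cs', hcs'⟩ := exists_section_of_closed (A := G) hcc'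
  have hgc : gen c = gen g := (gen_eq_of_specializes (specializes_iff_mem_closure.mpr hc)).symm
  have key : ∀ d ∈ closure ({gen g} : Set G.left) ∩ closedPoints G.left, o d ∈ closure ({ξ} : Set X.left) := by
    rintro d ⟨hd, hdd⟩
    obtain ⟨ds, hds⟩ := exists_section_of_closed (A := G) hdd
    let h := ds * cs⁻¹
    have hh : gen (pt₀ h) = gen (e G) := by
      have e1 : h ≫ (rtransl cs).hom = ds := by rw [rtransl_left, inv_mul_cancel_right]
      have e2 : (1 : 𝟙_ (Over (Spec (CommRingCat.of Ω))) ⟶ G) ≫ (rtransl cs).hom = cs := by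
        rw [rtransl_left, _root_.one_mul]
      have h1 : (rtransl cs).hom.left (gen (pt₀ h)) = (rtransl cs).hom.left (gen (e G)) := by
        rw [← gen_map_iso, ← gen_map_iso, ← comp_left_apply, e1, ← one_pt (G := G),
          ← comp_left_apply, e2]
        show gen (pt₀ ds) = gen (pt₀ cs)
        rw [hds, hcs, hgc, mem_closure_gen_iff.mp hd]
      simpa [left_inv_hom] using congrArg (rtransl cs).inv.left h1
    have hτ : (translG h).hom.left (gen g') = gen g' := by
      rw [← mem_closure_gen_iff.mp hc', ← gen_map_iso, ← hcs', ← comp_left_apply, translG_left, ← rtransl_left,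
        comp_left_apply, gen_map_iso, hh, ← gen_map_iso, ← one_pt (G := G),
        ← comp_left_apply, rtransl_left, _root_.one_mul]
    have hfix : (translX a h).hom.left ξ = ξ := by
      rw [← hξ', translX_orbit, hτ]
    have h2 := (hξ.trans ((specializes_iff_mem_closure.mpr hc).map o.continuous)).map (translX a h).hom.left.continuous
    rw [hfix, translX_orbit] at h2
    have : (translG h).hom.left c = d := by
      rw [← hcs, ← comp_left_apply, translG_left, inv_mul_cancel_right]
      exact hds
    rw [this] at h2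
    exact h2.mem_closure
  have hgen : gen g ∈ o ⁻¹' closure ({ξ} : Set X.left) := by
    refine closure_minimal key (isClosed_closure.preimage o.continuous) ?_
    rw [closure_inter_closedPoints isClosed_closure]
    exact subset_closure rfl
  have h := orbitMap_gen_maximal a x hsurj g ξ (specializes_iff_mem_closure.mpr hgen)
  exact ((specializes_iff_mem_closure.mpr hgen).antisymm h).eq

/-- closures of quasi-compact opens of a quasi-separated homogeneous space are open -/
theorem isOpen_closure [QuasiSeparatedSpace X.left] (x : 𝟙_ (Over (Spec (CommRingCat.of Ω))) ⟶ X)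
    (hsurj : Function.Surjective (a.orbitMap x).left) (V : X.left.Opens) (hV : IsCompact (V : Set X.left)) :
    IsOpen (closure (V : Set X.left)) := by
  haveI : JacobsonSpace G.left := LocallyOfFiniteType.jacobsonSpace G.hom
  haveI : UniversallyOpen (snd G X).left := universallyOpen_snd_left G X
  haveI := GrpSchField.isIso_left (actShear a)
  have hact : IsOpenMap a.act.left := by
    have h : a.act = (actShear a).hom ≫ snd G X := by simp [actShear]
    rw [h, Over.comp_left]
    exact ((actShear a).hom.left ≫ (snd G X).left).isOpenMap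
  let N : Set (G ⊗ X).left := (fst G X).left ⁻¹' unitComp G ∩ (snd G X).left ⁻¹' (V : Set X.left)
  have hN : IsOpen N := (isOpen_unitComp.preimage (fst G X).left.continuous).inter (V.isOpen.preimage (snd G X).left.continuous)
  suffices h : closure (V : Set X.left) = a.act.left '' N by rw [h]; exact hact N hN
  let o := (a.orbitMap x).left
  have hmem : ∀ z : X.left, ∀ g, o g = z → (z ∈ closure (V : Set X.left) ↔ o (gen g) ∈ V) := by
    intro z g hg
    constructor
    · intro hz
      obtain ⟨y, hyV, hyz⟩ := exists_specializes_of_mem_closure hV hz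
      obtain ⟨ξ, hξy, hξmax⟩ := exists_max_gen y
      rw [← orbitMap_gen_unique a x hsurj g ξ hξmax (hg ▸ hξy.trans hyz)]
      exact hξy.mem_open V.isOpen hyV
    · intro h
      exact closure_mono (Set.singleton_subset_iff.mpr h) ((hg ▸ (gen_specializes g).map o.continuous).mem_closure)
  have horb : ∀ d : 𝟙_ (Over (Spec (CommRingCat.of Ω))) ⟶ G,
      o (pt₀ d) = pt₀ (lift d x ≫ a.act) := fun d => by
    show (a.orbitMap x).left (d.left _) = _
    rw [← comp_left_apply, AlgGrp.Action.orbitMap, ← Category.assoc, comp_lift, Category.comp_id, ← Category.assoc,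
      toUnit_unique (d ≫ toUnit G) (𝟙 _), Category.id_comp]
  apply subset_antisymm
  · intro z hz
    obtain ⟨g, hg⟩ := hsurj z
    obtain ⟨c, hc, hcc⟩ := nonempty_inter_closedPoints (Z := closure {g}) ⟨_, subset_closure rfl⟩
      isClosed_closure.isLocallyClosed
    have hgc := specializes_iff_mem_closure.mpr hc
    obtain ⟨d, ⟨hd, hdV⟩, hdd⟩ := nonempty_inter_closedPoints (Z := closure {gen g} ∩ o ⁻¹' (V : Set X.left))
      ⟨gen g, subset_closure rfl, (hmem z g hg).mp hz⟩
      (isClosed_closure.isLocallyClosed.inter (V.isOpen.preimage o.continuous).isLocallyClosed)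
    obtain ⟨cs, hcs⟩ := exists_section_of_closed (A := G) hcc
    obtain ⟨ds, hds⟩ := exists_section_of_closed (A := G) hdd
    have h1 : gen (pt₀ (cs * ds⁻¹)) = gen (e G) := by
      have e1 : (cs * ds⁻¹) ≫ (rtransl ds).hom = cs := by rw [rtransl_left, inv_mul_cancel_right]
      have e2 : (1 : 𝟙_ (Over (Spec (CommRingCat.of Ω))) ⟶ G) ≫ (rtransl ds).hom = ds := by
        rw [rtransl_left, _root_.one_mul]
      have h1 : (rtransl ds).hom.left (gen (pt₀ (cs * ds⁻¹))) = (rtransl ds).hom.left (gen (e G)) := by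
        rw [← gen_map_iso, ← gen_map_iso, ← comp_left_apply, e1, ← one_pt (G := G),
          ← comp_left_apply, e2]
        show gen (pt₀ cs) = gen (pt₀ ds)
        rw [hcs, hds, mem_closure_gen_iff.mp hd, gen_eq_of_specializes hgc]
      simpa [left_inv_hom] using congrArg (rtransl ds).inv.left h1
    have hopen := hact N hN
    refine ((hgc.map o.continuous).mem_open hopen ?_) |> (hg ▸ ·)
    refine ⟨pt₀ (lift (cs * ds⁻¹) (lift ds x ≫ a.act)), ⟨?_, ?_⟩, ?_⟩
    · show (fst G X).left (pt₀ _) ∈ unitComp G
      rw [← comp_left_apply, lift_fst]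
      exact mem_closure_gen_iff.mpr h1
    · show (snd G X).left (pt₀ _) ∈ V
      rw [← comp_left_apply, lift_snd]
      show pt₀ (lift ds x ≫ a.act) ∈ V
      rw [← horb, hds]
      exact hdV
    · rw [← comp_left_apply, ← lift_act_mul, inv_mul_cancel_right]
      show pt₀ (lift cs x ≫ a.act) = o c
      rw [← horb, hcs]
  · rintro z ⟨v, hv, rfl⟩
    by_contra hz
    -- some maximal point outside the closure is in the image
    obtain ⟨g, hg⟩ := hsurj (a.act.left v)
    have hgen : o (gen g) ∈ a.act.left '' N ∩ (closure (V : Set X.left))ᶜ :=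
      ((gen_specializes g).map o.continuous).mem_open ((hact N hN).inter isClosed_closure.isOpen_compl)
        (by rw [hg]; exact ⟨⟨v, hv, rfl⟩, hz⟩)
    -- and so is a rational one with the same maximal generalisation
    obtain ⟨d, ⟨hd, hdI⟩, hdd⟩ := nonempty_inter_closedPoints (Z := closure {gen g} ∩ o ⁻¹' (a.act.left '' N))
      ⟨gen g, subset_closure rfl, hgen.1⟩
      (isClosed_closure.isLocallyClosed.inter ((hact N hN).preimage o.continuous).isLocallyClosed)
    obtain ⟨ds, hds⟩ := exists_section_of_closed (A := G) hdd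
    obtain ⟨w, hw, hwd⟩ := hdI
    obtain ⟨z₀, hz₀def⟩ : ∃ z₀, z₀ = lift ds x ≫ a.act := ⟨_, rfl⟩
    have hz₀ : pt₀ z₀ = o d := by rw [hz₀def, ← hds, horb]
    let m : G ⟶ G ⊗ X := lift (𝟙 G) (lift (𝟙 G)⁻¹ (toUnit G ≫ z₀) ≫ a.act)
    obtain ⟨h, hh⟩ : ∃ h, m.left h = w := by
      have h2 : (snd G X).left ((actShear a).hom.left w) ∈ Set.range z₀.left := by
        rw [← comp_left_apply, show (actShear a).hom ≫ snd G X = a.act by simp [actShear], hwd, ← hz₀]
        exact ⟨_, rfl⟩
      obtain ⟨u, hu⟩ : (actShear a).hom.left w ∈ Set.range (G ◁ z₀).left := by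
        rw [← id_tensorHom, range_tensorHom]
        exact ⟨⟨_, rfl⟩, h2⟩
      refine ⟨(fst G _).left u, ?_⟩
      rw [← left_inv_hom (actShear a) w, ← hu, ← comp_left_apply, ← comp_left_apply]
      suffices hm : fst G _ ≫ m = (G ◁ z₀) ≫ (actShear a).inv by rw [hm]
      show fst G _ ≫ lift _ _ = (G ◁ z₀) ≫ lift (fst G X) (lift (fst G X)⁻¹ (snd G X) ≫ a.act)
      rw [comp_lift, comp_lift, ← Category.assoc, ← Category.assoc, comp_lift, comp_lift, GrpObj.comp_inv, GrpObj.comp_inv,
        ← Category.assoc, toUnit_unique (fst G _ ≫ toUnit G) (snd G _)]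
      simp
    have hNh : (m.left ⁻¹' N).Nonempty := ⟨h, show m.left h ∈ N by rw [hh]; exact hw⟩
    obtain ⟨k, hk, hkk⟩ := nonempty_inter_closedPoints hNh (hN.preimage m.left.continuous).isLocallyClosed
    obtain ⟨ks, hks⟩ := exists_section_of_closed (A := G) hkk
    have hk1 : gen k = gen (e G) := by
      refine mem_closure_gen_iff.mp ?_
      have := hk.1
      simp only [Set.mem_preimage, ← comp_left_apply] at this
      simpa [m] using this
    have hk2 : o (pt₀ (ks⁻¹ * ds)) ∈ V := by
      rw [horb]
      have := hk.2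
      simp only [Set.mem_preimage, ← comp_left_apply, ← hks] at this
      have e : (ks ≫ m) ≫ snd G X = lift (ks⁻¹ * ds) x ≫ a.act := by
        simp only [m, Category.assoc, lift_snd]
        rw [← Category.assoc, comp_lift, GrpObj.comp_inv, Category.comp_id, ← Category.assoc,
          toUnit_unique (ks ≫ toUnit G) (𝟙 _), Category.id_comp, hz₀def, lift_act_mul]
      rw [e] at this
      exact this
    have hgk : gen (pt₀ (ks⁻¹ * ds)) = gen g := by
      have e1 : ks⁻¹ * ds = ks⁻¹ ≫ (rtransl ds).hom := (rtransl_left _ _).symm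
      have e3 : pt₀ ds = (rtransl ds).hom.left (e G) := by
        rw [← one_pt (G := G), ← comp_left_apply, rtransl_left, _root_.one_mul]
      rw [e1]
      show gen ((ks⁻¹ ≫ (rtransl ds).hom).left _) = _
      rw [comp_left_apply, gen_map_iso, show gen ((ks⁻¹).left (IsLocalRing.closedPoint Ω)) = gen (e G) from ?_,
        ← gen_map_iso, ← e3, hds, mem_closure_gen_iff.mp hd]
      -- the inverse stays in the unit component
      have h3 : ks⁻¹ ≫ (rtransl ks).hom = 1 := by rw [rtransl_left, inv_mul_cancel]
      have h4 : (1 : 𝟙_ (Over (Spec (CommRingCat.of Ω))) ⟶ G) ≫ (rtransl ks).hom = ks := by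
        rw [rtransl_left, _root_.one_mul]
      have h5 : (rtransl ks).hom.left (gen (pt₀ ks⁻¹)) = (rtransl ks).hom.left (gen (e G)) := by
        rw [← gen_map_iso, ← gen_map_iso, ← comp_left_apply, h3, one_apply, ← one_pt (G := G),
          ← comp_left_apply, h4, one_apply]
        show gen (e G) = gen (pt₀ ks)
        rw [hks, hk1]
      have h6 := congrArg (rtransl ks).inv.left h5
      rw [left_inv_hom, left_inv_hom] at h6
      exact h6
    refine hgen.2 (subset_closure ?_)
    rw [← hgk]
    exact ((gen_specializes _).map o.continuous).mem_open V.isOpen hk2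

/-- a maximal point lies in every quasi-compact dense open -/
theorem mem_of_maximal_qs {K : Type u} [Field K] {Y : Over (Spec (CommRingCat.of K))} [QuasiSeparatedSpace Y.left]
    {V : Y.left.Opens} (hV : IsCompact (V : Set Y.left)) {ξ : Y.left} (hξ : ξ ∈ closure (V : Set Y.left))
    (hmax : ∀ y, y ⤳ ξ → ξ ⤳ y) : ξ ∈ V := by
  obtain ⟨y, hy, hyξ⟩ := exists_specializes_of_mem_closure hV hξ
  exact (hmax y hyξ).mem_open V.isOpen hy

end Groth.Agent.HomogSep
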