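import Groth.Agent.HomogSep.Qs

/-!
Homogeneous spaces with quasi-separated connected fibres are separated.
-/

universe u

open CategoryTheory Limits MonoidalCategory CartesianMonoidalCategory MonObj GrpObj AlgebraicGeometry TopologicalSpace

set_option backward.isDefEq.respectTransparency false
set_option linter.style.haveILetI false
set_option synthInstance.maxHeartbeats 200000

noncomputable section

namespace Groth.Agent.HomogSep

open Groth.Agent.GrpSchField

variable {S : Scheme.{u}} {G X : Over S} [GrpObj G] [LocallyOfFiniteType G.hom] (a : AlgGrp.Action G X)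

theorem orbit_gen_mem (hΦ : Surjective (lift a.act (snd G X)).left) {Ω : Type u} [Field Ω] [IsAlgClosed Ω]
    (t : Spec (CommRingCat.of Ω) ⟶ S) (s : S) (hs : t (IsLocalRing.closedPoint Ω) = s)
    (hqs : QuasiSeparatedSpace ↥(X.hom ⁻¹' {s})) (hconn : _root_.IsPreconnected (X.hom ⁻¹' {s}))
    (V : X.left.Opens) (hV : IsCompact ((V : Set X.left) ∩ X.hom ⁻¹' {s}))
    (hne : ((V : Set X.left) ∩ X.hom ⁻¹' {s}).Nonempty) (x : 𝟙_ (Over (Spec (CommRingCat.of Ω))) ⟶ Red.bc t X)
    (g : (Red.bc t G).left) :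
    pullback.fst X.hom t (((a.bc t).orbitMap x).left (gen g)) ∈ V := by
  subst hs
  obtain ⟨ω, hω⟩ : ∃ ω, Spec.map ω ≫ S.fromSpecResidueField (t (IsLocalRing.closedPoint Ω)) = t :=
    ⟨_, (Scheme.SpecToEquivOfField Ω S).symm_apply_apply t⟩
  let s := t (IsLocalRing.closedPoint Ω)
  let G' := Red.bc t G
  let X' := Red.bc t X
  haveI : LocallyOfFiniteType G'.hom := inferInstanceAs (LocallyOfFiniteType (pullback.snd G.hom t))
  let m : X'.left ⟶ X.hom.fiber s := pullback.map _ _ _ _ (𝟙 _) (Spec.map ω) (𝟙 _) (by simp)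
    (by rw [Category.comp_id]; exact hω.symm)
  have hm : IsPullback m X'.hom (X.hom.fiberToSpecResidueField s) (Spec.map ω) := by
    refine IsPullback.of_right ?_ (pullback.lift_snd _ _ _) (IsPullback.of_hasPullback X.hom (S.fromSpecResidueField s))
    rw [show m ≫ pullback.fst X.hom (S.fromSpecResidueField s) = pullback.fst X.hom t by simp [m], hω]
    exact IsPullback.of_hasPullback X.hom t
  haveI : QuasiSeparatedSpace (X.hom.fiber s) :=
    haveI := hqs
    (X.hom.fiberHomeo s).isOpenEmbedding.quasiSeparatedSpace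
  haveI : QuasiSeparated (X.hom.fiberToSpecResidueField s) :=
    (quasiSeparated_iff_quasiSeparatedSpace _).mpr inferInstance
  haveI : QuasiSeparated X'.hom := MorphismProperty.of_isPullback hm inferInstance
  haveI : QuasiSeparatedSpace X'.left := quasiSeparatedSpace_of_quasiSeparated X'.hom
  haveI : Surjective (Spec.map ω) := ⟨fun q => ⟨IsLocalRing.closedPoint _, Subsingleton.elim _ _⟩⟩
  haveI : UniversallyOpen m := MorphismProperty.of_isPullback hm.flip inferInstance
  haveI : Surjective m := MorphismProperty.of_isPullback hm.flip inferInstance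
  haveI : QuasiCompact m := MorphismProperty.of_isPullback hm.flip inferInstance
  let A : Set (X.hom.fiber s) := X.hom.fiberι s ⁻¹' (V : Set X.left)
  have hA : IsCompact A := by
    rw [(X.hom.fiberι s).isEmbedding.isCompact_iff, Set.image_preimage_eq_inter_range, Scheme.Hom.range_fiberι]
    exact hV
  let V' : X'.left.Opens := m ⁻¹ᵁ (X.hom.fiberι s ⁻¹ᵁ V)
  have hV' : IsCompact (V' : Set X'.left) := QuasiCompact.isCompact_preimage _ (X.hom.fiberι s ⁻¹ᵁ V).isOpen hA
  have hsurj := surjective_orbitMap (a.bc t) (surjective_bc a hΦ t) x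
  have hclos : closure (V' : Set X'.left) = m ⁻¹' closure A :=
    (m.isOpenMap.preimage_closure_eq_closure_preimage m.continuous A).symm
  have hopen : IsOpen (closure A) := by
    rw [← Set.image_preimage_eq (closure A) m.surjective, ← hclos]
    exact m.isOpenMap _ (isOpen_closure (a.bc t) x hsurj V' hV')
  haveI : PreconnectedSpace (X.hom.fiber s) := by
    haveI : PreconnectedSpace ↥(X.hom ⁻¹' {s}) := isPreconnected_iff_preconnectedSpace.mp hconn
    exact ⟨(X.hom.fiberHomeo s).symm.surjective.range_eq ▸ isPreconnected_range (X.hom.fiberHomeo s).symm.continuous⟩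
  have hAne : (closure A).Nonempty := by
    obtain ⟨y, hy, hys⟩ := hne
    obtain ⟨q, hq⟩ := (X.hom.range_fiberι s).ge hys
    exact ⟨q, subset_closure (show X.hom.fiberι s q ∈ V by rw [hq]; exact hy)⟩
  have huniv : closure A = Set.univ := IsClopen.eq_univ ⟨isClosed_closure, hopen⟩ hAne
  have h := mem_of_maximal_qs (Y := X') hV' (ξ := ((a.bc t).orbitMap x).left (gen g))
    (by rw [hclos, huniv]; exact Set.mem_univ _) (orbitMap_gen_maximal (a.bc t) x hsurj g)
  show (pullback.fst X.hom t) _ ∈ V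
  rw [show pullback.fst X.hom t = m ≫ X.hom.fiberι s from ((pullback.lift_fst _ _ _).trans (Category.comp_id _)).symm,
    Scheme.Hom.comp_apply]
  exact h

theorem isCompact_inter_fibre {U : X.left.Opens} (hU : IsCompact (U : Set X.left)) (s : S) :
    IsCompact ((U : Set X.left) ∩ X.hom ⁻¹' {s}) := by
  haveI : QuasiCompact (S.fromSpecResidueField s) := ⟨fun _ _ _ => Set.Subsingleton.isCompact
    fun x _ y _ => Subsingleton.elim x y⟩
  haveI : QuasiCompact (X.hom.fiberι s) := inferInstanceAs (QuasiCompact (pullback.fst X.hom (S.fromSpecResidueField s)))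
  rw [← Scheme.Hom.range_fiberι, ← Set.image_preimage_eq_inter_range]
  exact (QuasiCompact.isCompact_preimage _ U.isOpen hU).image (X.hom.fiberι s).continuous

variable (W : G.left.Opens) (hW1 : ∀ p : ↥(𝟙_ (Over S)).left, η[G].left p ∈ W)
  (hΦ : Surjective (lift a.act (snd G X)).left)
  (hqs : ∀ s : S, QuasiSeparatedSpace ↥(X.hom ⁻¹' {s}))
  (hconn : ∀ s : S, _root_.IsPreconnected (X.hom ⁻¹' {s}))
include hW1 hΦ hqs hconn

theorem isSeparated_of_qs_connected (hWo : UniversallyOpen (W.ι ≫ G.hom)) : IsSeparated X.hom := by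
  refine isSeparated_of_translate G X W hWo a fun Ω _ _ t => ?_
  by_cases hne : (X.hom ⁻¹' {t (IsLocalRing.closedPoint Ω)}).Nonempty
  · obtain ⟨z, hz⟩ := hne
    obtain ⟨_, ⟨U, hU, rfl⟩, hzU, -⟩ := X.left.isBasis_affineOpens.exists_subset_of_mem_open (Set.mem_univ z) isOpen_univ
    haveI : IsAffine (U : Scheme.{u}) := hU
    refine ⟨U, IsSeparated.of_comp (Scheme.Opens.ι U ≫ X.hom) (terminal.from S), fun x y => ?_⟩
    haveI : LocallyOfFiniteType (Red.bc t G).hom := inferInstanceAs (LocallyOfFiniteType (pullback.snd G.hom t))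
    obtain ⟨g, hg, -⟩ := exists_point_of_unit G W t (IsLocalRing.closedPoint Ω) (hW1 _)
    exact ⟨gen g, ((gen_specializes g).mem_open (pullback.fst G.hom t ⁻¹ᵁ W).isOpen hg),
      orbit_gen_mem a hΦ t _ rfl (hqs _) (hconn _) U (isCompact_inter_fibre hU.isCompact _) ⟨z, hzU, hz⟩ x g,
      orbit_gen_mem a hΦ t _ rfl (hqs _) (hconn _) U (isCompact_inter_fibre hU.isCompact _) ⟨z, hzU, hz⟩ y g⟩
  · refine ⟨⊥, ?_, fun x _ => (hne ⟨pullback.fst X.hom t (x.left (IsLocalRing.closedPoint Ω)), ?_⟩).elim⟩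
    · haveI : IsEmpty ↥((⊥ : X.left.Opens) : Scheme.{u}) := ⟨fun x => x.2⟩
      exact IsSeparated.of_comp ((⊥ : X.left.Opens).ι ≫ X.hom) (terminal.from S)
    · show X.hom _ = t _
      rw [← Scheme.Hom.comp_apply, pullback.condition, Scheme.Hom.comp_apply]
      exact congrArg t (Subsingleton.elim _ _)

theorem quasiCompact_of_qs_connected (V : X.left.Opens) (hV : QuasiCompact (V.ι ≫ X.hom))
    (hmeet : ∀ s : S, (X.hom ⁻¹' {s}).Nonempty → ((V : Set X.left) ∩ X.hom ⁻¹' {s}).Nonempty) :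
    QuasiCompact X.hom := by
  rw [quasiCompact_iff_forall_isAffineOpen]
  intro U hU
  let e : ↥(𝟙_ (Over S)).left → G.left := η[G].left
  have hsec : ∀ p : S, G.hom (e p) = p := fun p => by
    show G.hom (η[G].left p) = p
    rw [← Scheme.Hom.comp_apply, Over.w η[G]]
    rfl
  obtain ⟨F, hF⟩ := (show IsCompact (e '' (U : Set S)) from hU.isCompact.image η[G].left.continuous).elim_finite_subcover
    (fun A : {A : G.left.affineOpens // A.1 ≤ G.hom ⁻¹ᵁ U} => (A.1.1 : Set G.left)) (fun A => A.1.1.isOpen)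
    (fun g hg => by
      obtain ⟨p, hp, rfl⟩ := hg
      obtain ⟨_, ⟨A, hA, rfl⟩, h1, h2⟩ := G.left.isBasis_affineOpens.exists_subset_of_mem_open
        (show e p ∈ G.hom ⁻¹ᵁ U by show G.hom (e p) ∈ U; rw [hsec]; exact hp) (G.hom ⁻¹ᵁ U).isOpen
      exact Set.mem_iUnion.mpr ⟨⟨⟨A, hA⟩, h2⟩, h1⟩)
  let V₀ : Set X.left := (V : Set X.left) ∩ (X.hom ⁻¹ᵁ U : Set X.left)
  have hV₀ : IsCompact V₀ := by
    have h := (QuasiCompact.isCompact_preimage (f := V.ι ≫ X.hom) _ U.isOpen hU.isCompact).image V.ι.continuous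
    convert h using 1
    ext z
    constructor
    · rintro ⟨hz1, hz2⟩
      exact ⟨⟨z, hz1⟩, hz2, rfl⟩
    · rintro ⟨⟨w, hw⟩, hw2, rfl⟩
      exact ⟨hw, hw2⟩
  obtain ⟨Q, hQ⟩ := hV₀.elim_finite_subcover
    (fun B : {B : X.left.affineOpens // (B.1 : Set X.left) ⊆ V₀} => (B.1.1 : Set X.left)) (fun B => B.1.1.isOpen)
    (fun z hz => by
      obtain ⟨_, ⟨B, hB, rfl⟩, h1, h2⟩ := X.left.isBasis_affineOpens.exists_subset_of_mem_open hz
        (V.isOpen.inter (X.hom ⁻¹ᵁ U).isOpen)
      exact Set.mem_iUnion.mpr ⟨⟨⟨B, hB⟩, h2⟩, h1⟩)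
  let piece : {A : G.left.affineOpens // A.1 ≤ G.hom ⁻¹ᵁ U} → {B : X.left.affineOpens // (B.1 : Set X.left) ⊆ V₀} →
      Set X.left :=
    fun A B => a.act.left '' ((fst G X).left ⁻¹' (A.1.1 : Set G.left) ∩ (snd G X).left ⁻¹' (B.1.1 : Set X.left))
  suffices h : (X.hom ⁻¹ᵁ U : Set X.left) = ⋃ A ∈ F, ⋃ B ∈ Q, piece A B by
    show IsCompact (X.hom ⁻¹ᵁ U : Set X.left)
    rw [h]
    refine F.isCompact_biUnion fun A _ => Q.isCompact_biUnion fun B _ => ?_
    have hB2 : B.1.1 ≤ X.hom ⁻¹ᵁ U := fun z hz => (B.2 hz).2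
    have hA : A.1.1.ι ≫ G.hom = (G.hom.resLE U A.1.1 A.2) ≫ U.ι := (G.hom.resLE_comp_ι A.2).symm
    have hB : B.1.1.ι ≫ X.hom = (X.hom.resLE U B.1.1 hB2) ≫ U.ι := (X.hom.resLE_comp_ι hB2).symm
    let m : pullback (G.hom.resLE U A.1.1 A.2) (X.hom.resLE U B.1.1 hB2) ⟶ pullback G.hom X.hom :=
      pullback.map _ _ _ _ A.1.1.ι B.1.1.ι U.ι hA.symm hB.symm
    haveI : IsAffine (A.1.1 : Scheme.{u}) := A.1.2
    haveI : IsAffine (B.1.1 : Scheme.{u}) := B.1.2
    haveI : IsAffine (U : Scheme.{u}) := hU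
    have hr : Set.range m = (fst G X).left ⁻¹' (A.1.1 : Set G.left) ∩ (snd G X).left ⁻¹' (B.1.1 : Set X.left) := by
      rw [Scheme.Pullback.range_map, A.1.1.range_ι, B.1.1.range_ι]
      rfl
    show IsCompact (a.act.left '' _)
    rw [← hr]
    exact (isCompact_range m.continuous).image a.act.left.continuous
  apply subset_antisymm
  · intro z hz
    let K := AlgebraicClosure (X.left.residueField z)
    let z₀ : Spec (CommRingCat.of K) ⟶ X.left :=
      Spec.map (CommRingCat.ofHom (algebraMap (X.left.residueField z) K)) ≫ X.left.fromSpecResidueField z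
    have hz₀ : z₀ (IsLocalRing.closedPoint K) = z := X.left.fromSpecResidueField_apply z _
    let t := z₀ ≫ X.hom
    have hts : t (IsLocalRing.closedPoint K) = X.hom z := by
      show (z₀ ≫ X.hom) _ = _
      rw [Scheme.Hom.comp_apply, hz₀]
    let zs : 𝟙_ (Over (Spec (CommRingCat.of K))) ⟶ Red.bc t X :=
      Over.homMk (pullback.lift z₀ (𝟙 _) (Category.id_comp _).symm) (pullback.lift_snd _ _ _)
    haveI : LocallyOfFiniteType (Red.bc t G).hom := inferInstanceAs (LocallyOfFiniteType (pullback.snd G.hom t))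
    obtain ⟨A, hA, heA⟩ := Set.mem_iUnion₂.mp (hF ⟨X.hom z, hz, rfl⟩)
    obtain ⟨g₀, hg₀, -⟩ := exists_point_of_unit G A.1.1 t (IsLocalRing.closedPoint K) (by rw [hts]; exact heA)
    have hinv : ∀ w, (ι[Red.bc t G]).left ((ι[Red.bc t G]).left w) = w := fun w => by
      rw [← comp_left_apply, GrpObj.inv_comp_inv]
      rfl
    let h := gen ((ι[Red.bc t G]).left g₀)
    have hhA : pullback.fst G.hom t ((ι[Red.bc t G]).left h) ∈ A.1.1 := by
      have h1 : (ι[Red.bc t G]).left h ⤳ g₀ := by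
        have h2 := (gen_specializes ((ι[Red.bc t G]).left g₀)).map (ι[Red.bc t G]).left.continuous
        rwa [hinv] at h2
      exact h1.mem_open (pullback.fst G.hom t ⁻¹ᵁ A.1.1).isOpen hg₀
    have hcs : IsCompact ((V : Set X.left) ∩ X.hom ⁻¹' {X.hom z}) := by
      haveI := hV
      let f := V.ι ≫ X.hom
      haveI : CompactSpace (f.fiber (X.hom z)) :=
        QuasiCompact.compactSpace_of_compactSpace (pullback.snd f (S.fromSpecResidueField (X.hom z)))
      convert (isCompact_range ((f.fiberι (X.hom z)) ≫ V.ι).continuous) using 1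
      rw [Scheme.Hom.comp_base, TopCat.coe_comp, Set.range_comp, Scheme.Hom.range_fiberι]
      ext w
      constructor
      · rintro ⟨hw1, hw2⟩
        exact ⟨⟨w, hw1⟩, hw2, rfl⟩
      · rintro ⟨⟨w', hw'⟩, hw2, rfl⟩
        exact ⟨hw', hw2⟩
    have hhV : pullback.fst X.hom t (((a.bc t).orbitMap zs).left h) ∈ V :=
      orbit_gen_mem a hΦ t _ hts (hqs _) (hconn _) V hcs (hmeet _ ⟨z, rfl⟩) zs _
    let p : Red.bc t G ⟶ Red.bc t G ⊗ Red.bc t X := lift ι[Red.bc t G] ((a.bc t).orbitMap zs)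
    have hp : p ≫ (a.bc t).act = toUnit _ ≫ zs := by
      show lift ι[Red.bc t G] (lift (𝟙 _) (toUnit _ ≫ zs) ≫ _) ≫ _ = _
      rw [← lift_act_mul, show ι[Red.bc t G] * 𝟙 (Red.bc t G) = 1 by
        have h0 := inv_mul_cancel (𝟙 (Red.bc t G))
        rwa [Hom.inv_def, Category.id_comp] at h0,
        lift_act_one]
    let pm : (Red.bc t G).left ⟶ pullback G.hom X.hom := p.left ≫ (Functor.LaxMonoidal.μ (Over.pullback t) G X).left ≫ pullback.fst (G ⊗ X).hom t
    have hsnd : (snd G X).left (pm h) ∈ V := by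
      show pullback.snd G.hom X.hom (pm h) ∈ V
      rw [← Scheme.Hom.comp_apply, Category.assoc, Category.assoc, ActBC.μ_left_fst_snd, ← Category.assoc]
      show ((p ≫ snd _ _).left ≫ pullback.fst X.hom t) h ∈ V
      rw [lift_snd, Scheme.Hom.comp_apply]
      exact hhV
    have hact : a.act.left (pm h) = z := by
      have h1 : pm ≫ a.act.left = (toUnit _ ≫ zs).left ≫ pullback.fst X.hom t := by
        rw [← hp, AlgGrp.Action.bc_act]
        simp only [pm, Over.comp_left, Category.assoc, ActBC.pullback_map_left_fst]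
      refine (Scheme.Hom.comp_apply pm a.act.left h).symm.trans ?_
      rw [h1, Over.comp_left, Category.assoc, Scheme.Hom.comp_apply]
      show (pullback.lift z₀ (𝟙 _) _ ≫ pullback.fst X.hom t) _ = z
      rw [pullback.lift_fst]
      exact (congrArg z₀ (Subsingleton.elim _ _)).trans hz₀
    have hU' : (snd G X).left (pm h) ∈ X.hom ⁻¹ᵁ U := by
      show X.hom _ ∈ U
      rw [← Scheme.Hom.comp_apply, Over.w (snd G X), ← Over.w a.act, Scheme.Hom.comp_apply, hact]
      exact hz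
    obtain ⟨B, hB, hhB⟩ := Set.mem_iUnion₂.mp (hQ ⟨hsnd, hU'⟩)
    refine Set.mem_iUnion₂.mpr ⟨A, hA, Set.mem_iUnion₂.mpr ⟨B, hB, pm h, ⟨?_, hhB⟩, hact⟩⟩
    show pullback.fst G.hom X.hom (pm h) ∈ A.1.1
    rw [← Scheme.Hom.comp_apply, Category.assoc, Category.assoc, ActBC.μ_left_fst_fst, ← Category.assoc]
    show ((p ≫ fst _ _).left ≫ pullback.fst G.hom t) h ∈ A.1.1
    rw [lift_fst, Scheme.Hom.comp_apply]
    exact hhA
  · intro z hz
    obtain ⟨A, -, hz⟩ := Set.mem_iUnion₂.mp hz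
    obtain ⟨B, -, w, hw, rfl⟩ := Set.mem_iUnion₂.mp hz
    show X.hom (a.act.left w) ∈ U
    rw [← Scheme.Hom.comp_apply, Over.w a.act]
    show (pullback.fst G.hom X.hom ≫ G.hom) w ∈ U
    rw [Scheme.Hom.comp_apply]
    exact A.2 hw.1

end Groth.Agent.HomogSep
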